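import Mathlib
import Cfsg.Prelude.Def_Local
import Cfsg.Prelude.Def_Characters
import Cfsg.Prelude.Def_Blocks
import Cfsg.Agent.H511.Wt.Irr
set_option linter.all false

-- part: H229/RIM/Defs
section
set_option linter.all false

/-!
# S4816 (relative Ito-Michler): the interfaces of the skeleton (helper229)

* `Bad p Z l`: all irreducible characters over the linear character `l` of the central subgroup `Z` have degree prime to `p`.
* `QBad p N φ`: a bad quasi-simple group; the three statements needed about them are `RowR` (non-abelian Sylow subgroups),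
  `RowOut` (outer automorphisms of order `p`) and `RowThree` (three orbits of characters).
* `CoreP p K N φ`: case A (the minimal normal subgroup is a `p`-group), the situation `Core2` of S4979 with `q = p`; its layers
  are `LayerIP` (imprimitive), `LayerAP` (quasi-simple), `LayerBP` (extraspecial); the layer of permuted components is a theorem.
-/

set_option autoImplicit false
set_option linter.unusedSectionVars false

open Cfsg

namespace Cfsg.Agent.H229.RIM

open Cfsg.Agent.H511.Wt

universe u

/-- All irreducible characters over `l` have degree prime to `p`. -/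
def Bad (p : ℕ) {G : Type*} [Group G] [Finite G] (Z : Subgroup G) (l : Z →* ℂˣ) : Prop :=
  ∀ χ : G → ℂ, IsIrrCharacter G χ → (∀ z : Z, χ z = χ 1 * l z) → ¬ p ∣ charDegree χ

/-- A bad quasi-simple group. -/
structure QBad (p : ℕ) {E : Type*} [Group E] [Finite E] (N : Subgroup E) (φ : N →* ℂˣ) : Prop where
  odd : p ≠ 2
  perf : commutator E = ⊤
  simp : IsSimpleGroup (E ⧸ Subgroup.center E)
  pZ : ¬ p ∣ Nat.card (Subgroup.center E)
  pE : p ∣ Nat.card E
  cen : N ≤ Subgroup.center E
  Nne : N ≠ ⊥
  inj : Function.Injective φ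
  bad : Bad p N φ

/-- The core situation of case A: `Core2` of S4979 with `q = p`. -/
structure CoreP (p : ℕ) {H V : Type*} [Group H] [Finite H] [AddCommGroup V] [Finite V]
    [DistribMulAction H V] (K N : Subgroup H) (φ : N →* ℂˣ) : Prop where
  odd : p ≠ 2
  perf : commutator H = ⊤
  nK : K.Normal
  Kt : K ≠ ⊤
  maxK : ∀ M : Subgroup H, M.Normal → M ≠ ⊤ → M ≤ K
  simp : IsSimpleGroup (H ⧸ K)
  na : ¬ IsMulCommutative (H ⧸ K)
  pK : ¬ p ∣ Nat.card K
  pS : p ∣ Nat.card (H ⧸ K)
  ab : ∀ P : Sylow p H, ∀ a ∈ P, ∀ b ∈ P, a * b = b * a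
  cen : N ≤ Subgroup.center H
  NK : N ≤ K
  Nne : N ≠ ⊥
  inj : Function.Injective φ
  exp : ∀ v : V, p • v = 0
  nt : Nontrivial V
  ker : ∀ h : H, (∀ v : V, h • v = v) ↔ h ∈ N
  irr : ∀ W : AddSubgroup V, (∀ h : H, ∀ w ∈ W, h • w ∈ W) → W = ⊥ ∨ W = ⊤
  P1 : ∀ v : V, ¬ p ∣ (MulAction.stabilizer H v).index
  P2 : ∀ (v : V) (χ : ↥(MulAction.stabilizer H v) → ℂ),
    IsIrrCharacter ↥(MulAction.stabilizer H v) χ →
    (∀ n (hn : n ∈ N) (hn' : n ∈ MulAction.stabilizer H v), χ ⟨n, hn'⟩ = χ 1 * φ ⟨n, hn⟩) →
    ¬ p ∣ charDegree χ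

/-- Case A does not occur. -/
def NoCoreP (p : ℕ) : Prop :=
  ∀ {H V : Type u} [Group H] [Finite H] [AddCommGroup V] [Finite V] [DistribMulAction H V]
    (K N : Subgroup H) (φ : N →* ℂˣ), ¬ CoreP (V := V) p K N φ

/-- Layer (I): `V` is primitive. -/
def LayerIP (p : ℕ) : Prop :=
  ∀ {H V : Type u} [Group H] [Finite H] [AddCommGroup V] [Finite V] [DistribMulAction H V]
    (K N : Subgroup H) (φ : N →* ℂˣ), CoreP (V := V) p K N φ → ¬ ImpP H V

/-- Layer (A): `K` is not central. -/
def LayerAP (p : ℕ) : Prop :=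
  ∀ {H V : Type u} [Group H] [Finite H] [AddCommGroup V] [Finite V] [DistribMulAction H V]
    (K N : Subgroup H) (φ : N →* ℂˣ), CoreP (V := V) p K N φ → ¬ ImpP H V → ¬ K ≤ Subgroup.center H

/-- Layer (B): no minimal non-central normal subgroup of class two. -/
def LayerBP (p : ℕ) : Prop :=
  ∀ {H V : Type u} [Group H] [Finite H] [AddCommGroup V] [Finite V] [DistribMulAction H V]
    (K N : Subgroup H) (φ : N →* ℂˣ), CoreP (V := V) p K N φ → ¬ ImpP H V →
    (∀ M : Subgroup H, M.Normal → (∀ a ∈ M, ∀ b ∈ M, a * b = b * a) → M ≤ Subgroup.center H) →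
    ∀ E : Subgroup H, E.Normal → E ≤ K → ¬ E ≤ Subgroup.center H →
      (∀ M : Subgroup H, M.Normal → M < E → M ≤ Subgroup.center H) →
      ⁅E, E⁆ ≤ Subgroup.center H → False

end Cfsg.Agent.H229.RIM
end

-- part: H665/RIM/Defs
section
set_option linter.all false

/-!
# Navarro-Tiep relative Ito-Michler theorem (S4816): the form of the rows (helper665)

Interface of the skeleton: `H229/RIM/Defs.lean` (`Bad QBad RowR RowOut RowThree CoreP LayerIP LayerAP LayerBP`).
Rows are statements on the simple group `S`: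
* `NB p m S`: every perfect central extension of `S` with kernel of order `m` has, over every faithful
  linear character of the kernel, an irreducible character of degree divisible by `p`; `NBall p S`: all
  `m ≥ 2` prime to `p`;
* `EK p S`: no affine situation `CoreP` with `H / N` quasisimple over `S`;
* `Kill p S := NBall p S ∨ EK p S`;
* `NoPEx p H`: no faithful irreducible `F_p H`-module has all its orbits of size prime to `p`.
-/

set_option autoImplicit false
set_option linter.unusedSectionVars false

namespace Cfsg.Agent.H665.RIM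

open Cfsg Cfsg.Agent.H229.RIM
open scoped commutatorElement

universe u

/-- `NB p m S` ("not bad"): every perfect central extension `π : E → S` with kernel of order `m` and
every faithful linear character `l` of the kernel have an irreducible character of `E` over `l` whose
degree is divisible by `p`. -/
def NB (p m : ℕ) (S : Type u) [Group S] : Prop :=
  ∀ (E : Type u) [Group E] [Finite E] (π : E →* S), Function.Surjective π →
    π.ker ≤ Subgroup.center E → commutator E = ⊤ → Nat.card π.ker = m →
    ∀ l : π.ker →* ℂˣ, Function.Injective l →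
      ∃ χ : E → ℂ, IsIrrCharacter E χ ∧ (∀ z : π.ker, χ z = χ 1 * l z) ∧ p ∣ charDegree χ

/-- `NBall p S`: not bad for every nontrivial order prime to `p` -/
def NBall (p : ℕ) (S : Type u) [Group S] : Prop :=
  ∀ m : ℕ, 2 ≤ m → ¬ p ∣ m → NB p m S

/-- `p`-subgroups are abelian -/
def AbSyl (p : ℕ) (S : Type u) [Group S] : Prop :=
  ∀ P : Subgroup S, IsPGroup p P → ∀ a ∈ P, ∀ b ∈ P, a * b = b * a

/-- `EK p S`: no affine situation with `H / N` quasisimple (`K / N` central), `H / K ≅ S`. -/
def EK (p : ℕ) (S : Type u) [Group S] : Prop :=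
  ∀ (H V : Type u) [Group H] [Finite H] [AddCommGroup V] [Finite V] [DistribMulAction H V]
    (K N : Subgroup H) (φ : N →* ℂˣ) (π : H →* S), CoreP (V := V) p K N φ →
    Function.Surjective π → π.ker = K → (∀ k ∈ K, ∀ h : H, ⁅k, h⁆ ∈ N) → False

/-- a row: the character side or the module side -/
def Kill (p : ℕ) (S : Type u) [Group S] : Prop := NBall p S ∨ EK p S

/-- `NoPEx p H`: every faithful irreducible `F_p H`-module has an orbit of size divisible by `p`. -/
def NoPEx (p : ℕ) (H : Type u) [Group H] : Prop :=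
  ∀ (V : Type u) [AddCommGroup V] [Finite V] [DistribMulAction H V],
    (∀ v : V, p • v = 0) → Nontrivial V → (∀ h : H, (∀ v : V, h • v = v) → h = 1) →
    (∀ W : AddSubgroup V, (∀ h : H, ∀ w ∈ W, h • w ∈ W) → W = ⊥ ∨ W = ⊤) →
    (∀ v : V, ¬ p ∣ (MulAction.stabilizer H v).index) → False

end Cfsg.Agent.H665.RIM
end
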